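import Cfsg.Agent.H7Thick.Graph
import Cfsg.Agent.H68.Thick.Basic
import Cfsg.Agent.Unitary.CharTwo
import Cfsg.Agent.Unitary.Simple
import Cfsg.Agent.Unitary.Center
import Cfsg.Agent.H80.TTQuad.Models

/-!
The class of transvections of `PSU_n(2)`, `n ≥ 4`: a thick class with lines of five points,
unique hyperbolic lines, and residues given by the isotropic points of an orthogonal complement.
-/

set_option autoImplicit false
set_option linter.unusedSectionVars false

namespace Cfsg.Agent.H7Thick.Model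

open Cfsg Matrix
open Cfsg.Agent.Unitary hiding cj cj_apply cj_cj cj_add cj_smul cj_zero cj_eq_zero
open H76.LocallyS3 (nb cj cj_cj cj_injective commute_cj_iff)
open H80.TTQuad (Cls B OnLine cls_of_simple)
open H68.Thick (Line Thk line_subset_B)

variable {F : Type} [Field F] [Fintype F] {n : ℕ}

/-- The transvections in `PSU_n(2)`. -/
def tvq (n : ℕ) (F : Type) [Field F] : Set (PSU n F 2) :=
  QuotientGroup.mk '' {g : SU n F 2 | (mat g - 1).rank = 1}

/-- The transvection of `SU_n(2)` at an isotropic vector. -/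
def tr (hF : Fintype.card F = 2 ^ 2) (v : Fin n → F) (hv : hermForm n F 2 v v = 0) : SU n F 2 :=
  tv hF hv (one_skew_two hF)

/-- The member of the class at an isotropic vector. -/
def pt (hF : Fintype.card F = 2 ^ 2) (v : Fin n → F) (hv : hermForm n F 2 v v = 0) : PSU n F 2 :=
  QuotientGroup.mk (tr hF v hv)

section Basic

variable (hF : Fintype.card F = 2 ^ 2)
include hF

theorem ap_tr {v : Fin n → F} (hv : hermForm n F 2 v v = 0) (x : Fin n → F) :
    ap (tr hF v hv) x = x + hermForm n F 2 x v • v := by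
  rw [tr, ap_tv, one_mul]

theorem cube {a : F} (ha : a ≠ 0) : a * a ^ 2 = 1 := by
  have h := FiniteField.pow_card_sub_one_eq_one a ha
  rw [hF] at h
  rw [← pow_succ']
  exact h

theorem eq_zero_or_one {a : F} (h : a + a ^ 2 = 0) : a = 0 ∨ a = 1 :=
  (em (a = 0)).imp id (eq_one_of_skew_two hF h)

theorem pt_mem {v : Fin n → F} (hv : hermForm n F 2 v v = 0) (hv0 : v ≠ 0) :
    pt hF v hv ∈ tvq n F :=
  ⟨_, rank_tv_sub_one hF hv _ hv0 one_ne_zero, rfl⟩

theorem exists_pt {d : PSU n F 2} (hd : d ∈ tvq n F) :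
    ∃ (v : Fin n → F) (hv : hermForm n F 2 v v = 0), v ≠ 0 ∧ d = pt hF v hv := by
  obtain ⟨g, hg, rfl⟩ := hd
  obtain ⟨v, c, hv, hc, hv0, hc0, rfl⟩ := exists_eq_tv_of_isTransvection hF g
    (isTransvection_of_rank_one (g : Matrix.SpecialLinearGroup (Fin n) F).2 hg)
  obtain rfl := eq_one_of_skew_two hF hc hc0
  exact ⟨v, hv, hv0, rfl⟩

theorem herm_smul_zero {v : Fin n → F} (hv : hermForm n F 2 v v = 0) (a : F) :
    hermForm n F 2 (a • v) (a • v) = 0 := by rw [herm_self_smul, hv, mul_zero]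

theorem pt_congr {u v : Fin n → F} (e : u = v) (hu : hermForm n F 2 u u = 0)
    (hv : hermForm n F 2 v v = 0) : pt hF u hu = pt hF v hv := by subst e; rfl

theorem pt_smul {v : Fin n → F} {a : F} (hv : hermForm n F 2 v v = 0)
    (hv' : hermForm n F 2 (a • v) (a • v) = 0) (ha : a ≠ 0) :
    pt hF (a • v) hv' = pt hF v hv :=
  congrArg QuotientGroup.mk (tv_smul_two hF hv hv' (cube hF ha))

theorem cj_pt {u v : Fin n → F} (hu : hermForm n F 2 u u = 0) (hv : hermForm n F 2 v v = 0)
    (h' : hermForm n F 2 (v + hermForm n F 2 v u • u) (v + hermForm n F 2 v u • u) = 0) :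
    cj (pt hF u hu) (pt hF v hv) = pt hF (v + hermForm n F 2 v u • u) h' := by
  refine congrArg QuotientGroup.mk ?_
  have h1 : hermForm n F 2 (ap (tr hF u hu) v) (ap (tr hF u hu) v) = 0 := by rw [herm_ap, hv]
  show tr hF u hu * tv hF hv (one_skew_two hF) * (tr hF u hu)⁻¹ = _
  rw [conj_tv hF _ hv (one_skew_two hF) h1]
  congr 1
  exact ap_tr hF hu v

theorem iso_add_cj {u v : Fin n → F} (hu : hermForm n F 2 u u = 0) (hv : hermForm n F 2 v v = 0) :
    hermForm n F 2 (v + hermForm n F 2 v u • u) (v + hermForm n F 2 v u • u) = 0 := by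
  rw [← ap_tr hF hu v, herm_ap, hv]

/-- A vector orthogonal to two given ones. -/
theorem exists_perp_two (hn : 3 ≤ n) (u v : Fin n → F) :
    ∃ x : Fin n → F, x ≠ 0 ∧ hermForm n F 2 x u = 0 ∧ hermForm n F 2 x v = 0 := by
  have hne : LinearMap.ker ((hermL n 2 u).prod (hermL n 2 v)) ≠ ⊥ := by
    refine LinearMap.ker_ne_bot_of_finrank_lt ?_
    rw [Module.finrank_prod, Module.finrank_self, Module.finrank_fin_fun]
    omega
  obtain ⟨x, hx, hx0⟩ := Submodule.exists_mem_ne_zero_of_ne_bot hne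
  rw [LinearMap.mem_ker] at hx
  exact ⟨x, hx0, congrArg Prod.fst hx, congrArg Prod.snd hx⟩

theorem eq_of_mk_eq (hn : 3 ≤ n) {u v : Fin n → F} {hu : hermForm n F 2 u u = 0}
    {hv : hermForm n F 2 v v = 0} (h : pt hF u hu = pt hF v hv) : tr hF u hu = tr hF v hv := by
  obtain ⟨l, hl⟩ := eq_smul_of_mem_center hF (by omega) (QuotientGroup.eq.1 h)
  obtain ⟨x, hx0, hxu, hxv⟩ := exists_perp_two hF hn u v
  have h1 := congrArg (ap (tr hF u hu)) (hl x)
  rw [← ap_mul, mul_inv_cancel_left, ap_smul, ap_tr hF hv, ap_tr hF hu, hxu, hxv, zero_smul,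
    zero_smul, add_zero] at h1
  have hl1 : l = 1 := (smul_left_injective F hx0 (h1.symm.trans (one_smul F x).symm))
  refine ap_ext fun y => ?_
  have h2 := congrArg (ap (tr hF u hu)) (hl y)
  rw [← ap_mul, mul_inv_cancel_left, hl1, one_smul] at h2
  exact h2.symm

theorem pt_eq_iff (hn : 3 ≤ n) {u v : Fin n → F} (hu : hermForm n F 2 u u = 0)
    (hv : hermForm n F 2 v v = 0) (hv0 : v ≠ 0) :
    pt hF u hu = pt hF v hv ↔ ∃ a : F, a ≠ 0 ∧ v = a • u := by
  constructor
  · intro h
    obtain ⟨z, -, -, hz⟩ := exists_partner hF (nondeg_top hF) Submodule.mem_top hv0 hv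
    have h1 := congrArg (fun A => ap A z) (eq_of_mk_eq hF hn h)
    simp only [ap_tr, hz, one_smul, add_right_inj] at h1
    exact ⟨_, fun h0 => hv0 (by rw [← h1, h0, zero_smul]), h1.symm⟩
  · rintro ⟨a, ha, rfl⟩
    exact (pt_smul hF hu hv ha).symm

theorem commute_tr {u v : Fin n → F} (hu : hermForm n F 2 u u = 0) (hv : hermForm n F 2 v v = 0) :
    Commute (tr hF u hu) (tr hF v hv) ↔ hermForm n F 2 u v = 0 := by
  constructor
  · intro h
    by_contra huv
    have hu0 : u ≠ 0 := by rintro rfl; exact huv (herm_zero_left v)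
    have h1 := congrArg (fun A => ap A u) h.eq
    simp only [ap_mul, ap_tr, hu, herm_add_left, herm_smul_left, zero_smul, add_zero, zero_add]
      at h1
    rw [add_eq_left, smul_eq_zero] at h1
    exact h1.elim (mul_ne_zero huv ((herm_eq_zero_symm hF).not.1 huv)) hu0
  · intro huv
    refine ap_ext fun x => ?_
    simp only [ap_mul, ap_tr, herm_add_left, herm_smul_left, huv, (herm_eq_zero_symm hF).1 huv,
      mul_zero, add_zero]
    abel

theorem commute_pt (hn : 3 ≤ n) {u v : Fin n → F} (hu : hermForm n F 2 u u = 0)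
    (hv : hermForm n F 2 v v = 0) :
    Commute (pt hF u hu) (pt hF v hv) ↔ hermForm n F 2 u v = 0 := by
  refine ⟨fun h => (commute_tr hF hu hv).1 ?_,
    fun h => ((commute_tr hF hu hv).2 h).map (QuotientGroup.mk' _)⟩
  obtain ⟨l, hl⟩ := eq_smul_of_mem_center hF (by omega) (QuotientGroup.eq.1 h.eq)
  obtain ⟨x, hx0, hxu, hxv⟩ := exists_perp_two hF hn u v
  have h1 := congrArg (ap (tr hF u hu * tr hF v hv)) (hl x)
  rw [← ap_mul, mul_inv_cancel_left, ap_smul] at h1
  simp only [ap_mul, ap_tr, hxu, hxv, zero_smul, add_zero] at h1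
  have hl1 : l = 1 := (smul_left_injective F hx0 (h1.symm.trans (one_smul F x).symm))
  refine ap_ext fun y => ?_
  have h2 := congrArg (ap (tr hF u hu * tr hF v hv)) (hl y)
  rw [← ap_mul, mul_inv_cancel_left, hl1, one_smul] at h2
  exact h2.symm

end Basic

section Class

variable (hF : Fintype.card F = 2 ^ 2) (hn : 4 ≤ n)
include hF hn

theorem cls_tvq : Cls (tvq n F) := by
  have hSU := isThreeTranspositionClass_tv hF hn
  have := isSimpleGroup_PSU (n := n) hF (by omega) (by omega)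
  have hpt : ∀ d ∈ tvq n F, ∃ e ∈ tvq n F, d ≠ e := by
    intro d hd
    obtain ⟨u, hu, hu0, rfl⟩ := exists_pt hF hd
    obtain ⟨v, -, hv, hvu⟩ := exists_partner hF (nondeg_top hF) Submodule.mem_top hu0 hu
    have hv0 : v ≠ 0 := by rintro rfl; rw [herm_zero_left] at hvu; exact zero_ne_one hvu
    refine ⟨_, pt_mem hF hv hv0, fun e => ?_⟩
    obtain ⟨a, -, rfl⟩ := (pt_eq_iff hF (by omega) hu hv hv0).1 e
    rw [herm_smul_left, hu, mul_zero] at hvu
    exact zero_ne_one hvu
  have hD : IsThreeTranspositionClass (tvq n F) := by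
    obtain ⟨⟨ho, h23⟩, ⟨d₀, hd₀, hcl⟩, hgen⟩ := hSU
    refine ⟨⟨?_, ?_⟩, ⟨QuotientGroup.mk d₀, ⟨d₀, hd₀, rfl⟩, ?_⟩, ?_⟩
    · rintro d hd
      obtain ⟨e, ⟨g', hg', rfl⟩, hne⟩ := hpt d hd
      obtain ⟨g, hg, rfl⟩ := hd
      have hg2 : g ^ 2 = 1 := orderOf_dvd_iff_pow_eq_one.1 (ho g hg).dvd
      refine orderOf_eq_prime (by rw [← QuotientGroup.mk_pow, hg2, QuotientGroup.mk_one])
        fun h1 => ?_
      obtain ⟨c, hc⟩ := isConj_iff.1 (show IsConj g g' by
        rw [hcl] at hg hg'; exact hg.symm.trans hg')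
      exact hne (by rw [← hc, QuotientGroup.mk_mul, QuotientGroup.mk_mul, h1, mul_one,
        QuotientGroup.mk_inv, mul_inv_cancel])
    · rintro _ ⟨g, hg, rfl⟩ _ ⟨g', hg', rfl⟩
      exact (h23 g hg g' hg').imp
        (fun h => by rw [← QuotientGroup.mk_mul, ← QuotientGroup.mk_pow, h, QuotientGroup.mk_one])
        fun h => by rw [← QuotientGroup.mk_mul, ← QuotientGroup.mk_pow, h, QuotientGroup.mk_one]
    · ext x
      constructor
      · rintro ⟨g, hg, rfl⟩
        rw [hcl] at hg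
        exact (QuotientGroup.mk' _).map_isConj hg
      · intro hx
        obtain ⟨c, rfl⟩ := isConj_iff.1 hx
        obtain ⟨c', rfl⟩ := QuotientGroup.mk_surjective c
        refine ⟨c' * d₀ * c'⁻¹, ?_, rfl⟩
        rw [hcl]
        exact isConj_iff.2 ⟨c', rfl⟩
    · have h := MonoidHom.map_closure (QuotientGroup.mk' (Subgroup.center (SU n F 2)))
        {g : SU n F 2 | (mat g - 1).rank = 1}
      rw [hgen, Subgroup.map_top_of_surjective _ (QuotientGroup.mk'_surjective _)] at h
      exact h.symm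
  refine cls_of_simple hD fun hc => ?_
  obtain ⟨d, hd, -⟩ := hD.2.1
  obtain ⟨u, hu, hu0, rfl⟩ := exists_pt hF hd
  obtain ⟨v, -, hv, hvu⟩ := exists_partner hF (nondeg_top hF) Submodule.mem_top hu0 hu
  refine one_ne_zero (hvu.symm.trans ((commute_pt hF (by omega) hv hu).1 ?_))
  exact Subgroup.mem_center_iff.1 (hc ▸ Subgroup.mem_top (pt hF u hu)) _

theorem indep_of_perp {u v : Fin n → F} (hu : hermForm n F 2 u u = 0) (hu0 : u ≠ 0)
    (hv : hermForm n F 2 v v = 0) (hv0 : v ≠ 0) (hne : pt hF u hu ≠ pt hF v hv) :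
    LinearIndependent F ![u, v] := by
  rw [LinearIndependent.pair_iff' hu0]
  intro a ha
  exact hne ((pt_eq_iff hF (by omega) hu hv hv0).2
    ⟨a, fun h0 => hv0 (by rw [← ha, h0, zero_smul]), ha.symm⟩)

/-- An isotropic vector orthogonal to the isotropic vectors orthogonal to two others is one of
their combinations. -/
theorem mem_span_of_perp {u v w : Fin n → F} (hind : LinearIndependent F ![u, v])
    (h : ∀ z : Fin n → F, hermForm n F 2 z z = 0 → hermForm n F 2 z u = 0 →
      hermForm n F 2 z v = 0 → hermForm n F 2 z w = 0)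
    (hcase : (hermForm n F 2 w u = 0 ∧ hermForm n F 2 w v = 0 ∧ hermForm n F 2 w w = 0) ∨
      Nondeg 2 (Submodule.span F ({u, v} : Set (Fin n → F)))) :
    w ∈ Submodule.span F ({u, v} : Set (Fin n → F)) := by
  by_contra hw
  have h3 : LinearIndependent F ![w, u, v] := by
    refine linearIndependent_finCons.2 ⟨hind, ?_⟩
    rwa [Matrix.range_cons, Matrix.range_cons, Matrix.range_empty, Set.union_empty,
      Set.singleton_union]
  obtain ⟨z, hz⟩ := exists_herm_eq hF h3 ![1, 0, 0]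
  have hzw : hermForm n F 2 z w = 1 := by simpa using hz 0
  have hzu : hermForm n F 2 z u = 0 := by simpa using hz 1
  have hzv : hermForm n F 2 z v = 0 := by simpa using hz 2
  rcases hcase with ⟨hwu, hwv, hww⟩ | hP
  · obtain ⟨l, hl⟩ := exists_isotropic_add hF hww (z := z) (by rw [hzw]; exact one_ne_zero)
    have h0 := h _ hl (by rw [herm_add_left, hzu, herm_smul_left, hwu, mul_zero, add_zero])
      (by rw [herm_add_left, hzv, herm_smul_left, hwv, mul_zero, add_zero])
    rw [herm_add_left, hzw, herm_smul_left, hww, mul_zero, add_zero] at h0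
    exact one_ne_zero h0
  · have hd := finrank_perp_add hF hP
    rw [finrank_pair hind] at hd
    have hall := exists_add_isotropic hF (nondeg_perp hF hP) (by omega)
      (p := fun x => hermForm n F 2 x w = 0)
      (fun x hx hxx => by
        rw [perp_span hF] at hx
        exact h x hxx (mem_perp_pair.1 hx).1 (mem_perp_pair.1 hx).2)
      (fun x _ y _ hx hy => by rw [herm_add_left, hx, hy, add_zero]) z
      (by rw [perp_span hF]; exact mem_perp_pair.2 ⟨hzu, hzv⟩)
    exact one_ne_zero (hzw.symm.trans hall)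

/-- A vector on a totally singular line lies on the line of the class. -/
theorem onLine_pt {u v r : Fin n → F} (hu : hermForm n F 2 u u = 0) (hv : hermForm n F 2 v v = 0)
    (hr : hermForm n F 2 r r = 0) (hr0 : r ≠ 0)
    (hmem : r ∈ Submodule.span F ({u, v} : Set (Fin n → F))) :
    OnLine (tvq n F) (pt hF u hu) (pt hF v hv) (pt hF r hr) := by
  refine ⟨pt_mem hF hr hr0, fun d hd => ?_⟩
  obtain ⟨w, hw, -, rfl⟩ := exists_pt hF hd.1
  have h1 : hermForm n F 2 w u = 0 := (commute_pt hF (by omega) hw hu).1 hd.2.1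
  have h2 : hermForm n F 2 w v = 0 := (commute_pt hF (by omega) hw hv).1 hd.2.2
  exact ((commute_pt hF (by omega) hw hr).2
    (mem_perp_span hF (mem_perp_pair.2 ⟨h1, h2⟩) hmem)).symm

theorem line_eq_span {u v : Fin n → F} (hu : hermForm n F 2 u u = 0) (hu0 : u ≠ 0)
    (hv : hermForm n F 2 v v = 0) (hv0 : v ≠ 0) (huv : hermForm n F 2 u v = 0)
    (hne : pt hF u hu ≠ pt hF v hv) :
    Line (tvq n F) (pt hF u hu) (pt hF v hv) = {d | ∃ (r : Fin n → F)
      (hr : hermForm n F 2 r r = 0), r ≠ 0 ∧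
        r ∈ Submodule.span F ({u, v} : Set (Fin n → F)) ∧ d = pt hF r hr} := by
  have hind := indep_of_perp hF hn hu hu0 hv hv0 hne
  refine Set.Subset.antisymm (fun d hd => ?_) ?_
  · obtain ⟨r, hr, hr0, rfl⟩ := exists_pt hF hd.1
    refine ⟨r, hr, hr0, mem_span_of_perp hF hn hind (fun z hz hzu hzv => ?_)
      (Or.inl ⟨?_, ?_, hr⟩), rfl⟩
    · by_cases hz0 : z = 0
      · rw [hz0, herm_zero_left]
      exact (commute_pt hF (by omega) hz hr).1 (hd.2 _ ⟨pt_mem hF hz hz0,
        (commute_pt hF (by omega) hz hu).2 hzu, (commute_pt hF (by omega) hz hv).2 hzv⟩).symm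
    · exact (commute_pt hF (by omega) hr hu).1 (hd.2 _ ⟨pt_mem hF hu hu0, Commute.refl _,
        (commute_pt hF (by omega) hu hv).2 huv⟩)
    · exact (commute_pt hF (by omega) hr hv).1 (hd.2 _ ⟨pt_mem hF hv hv0,
        ((commute_pt hF (by omega) hu hv).2 huv).symm, Commute.refl _⟩)
  · rintro _ ⟨r, hr, hr0, hmem, rfl⟩
    exact onLine_pt hF hn hu hv hr hr0 hmem

theorem thk_tvq : Thk (tvq n F) := by
  refine ⟨cls_tvq hF hn, fun p hp q hq => ?_⟩
  obtain ⟨u, hu, hu0, rfl⟩ := exists_pt hF hp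
  obtain ⟨v, hv, hv0, rfl⟩ := exists_pt hF hq.1
  have huv := (commute_pt hF (by omega) hu hv).1 hq.2.2
  have hind := indep_of_perp hF hn hu hu0 hv hv0 hq.2.1.symm
  have hr : hermForm n F 2 (u + v) (u + v) = 0 := by
    rw [herm_self_add hF, hu, hv, huv, zero_pow two_ne_zero, add_zero, add_zero]
  rw [LinearIndependent.pair_iff] at hind
  have hr0 : u + v ≠ 0 := fun h =>
    one_ne_zero (hind 1 1 (by rw [one_smul, one_smul]; exact h)).1
  refine ⟨pt hF (u + v) hr, onLine_pt hF hn hu hv hr hr0 (Submodule.add_mem _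
    (Submodule.subset_span (Or.inl rfl)) (Submodule.subset_span (Or.inr rfl))), ?_, ?_⟩
  · intro e
    obtain ⟨a, -, ha⟩ := (pt_eq_iff hF (by omega) hu hr hr0).1 e.symm
    exact one_ne_zero (hind (1 - a) 1 (by linear_combination (norm := module) ha)).2
  · intro e
    obtain ⟨a, -, ha⟩ := (pt_eq_iff hF (by omega) hv hr hr0).1 e.symm
    exact one_ne_zero (hind 1 (1 - a) (by linear_combination (norm := module) ha)).1

theorem ncard_line {p q : PSU n F 2} (hp : p ∈ tvq n F) (hq : q ∈ nb (tvq n F) p) :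
    (Line (tvq n F) p q).ncard = 5 := by
  classical
  obtain ⟨u, hu, hu0, rfl⟩ := exists_pt hF hp
  obtain ⟨v, hv, hv0, rfl⟩ := exists_pt hF hq.1
  have huv := (commute_pt hF (by omega) hu hv).1 hq.2.2
  rw [line_eq_span hF hn hu hu0 hv hv0 huv hq.2.1.symm]
  have hind := indep_of_perp hF hn hu hu0 hv hv0 hq.2.1.symm
  rw [LinearIndependent.pair_iff] at hind
  have hiso : ∀ a : F, hermForm n F 2 (a • u + v) (a • u + v) = 0 := fun a => by
    rw [herm_self_add hF, herm_self_smul, hu, hv, herm_smul_left, huv, mul_zero, mul_zero,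
      zero_pow two_ne_zero, add_zero, add_zero]
  let f : Option F → PSU n F 2 := fun o => o.elim (pt hF u hu) fun a => pt hF _ (hiso a)
  have hne0 : ∀ a : F, a • u + v ≠ 0 := fun a h =>
    one_ne_zero (hind a 1 (by rw [one_smul]; exact h)).2
  have hf : Function.Injective f := by
    rintro (_ | a) (_ | b) h
    · rfl
    · obtain ⟨c, -, hc⟩ := (pt_eq_iff hF (by omega) hu (hiso b) (hne0 b)).1 h
      exact absurd (hind (b - c) 1 (by linear_combination (norm := module) hc)).2 one_ne_zero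
    · obtain ⟨c, -, hc⟩ := (pt_eq_iff hF (by omega) hu (hiso a) (hne0 a)).1 h.symm
      exact absurd (hind (a - c) 1 (by linear_combination (norm := module) hc)).2 one_ne_zero
    · obtain ⟨c, -, hc⟩ := (pt_eq_iff hF (by omega) (hiso a) (hiso b) (hne0 b)).1 h
      obtain ⟨h1, h2⟩ := hind (b - c * a) (1 - c) (by linear_combination (norm := module) hc)
      rw [sub_eq_zero] at h1 h2
      exact congrArg some (by rw [h1, ← h2, one_mul])
  have hrange : {d | ∃ (r : Fin n → F) (hr : hermForm n F 2 r r = 0), r ≠ 0 ∧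
      r ∈ Submodule.span F ({u, v} : Set (Fin n → F)) ∧ d = pt hF r hr} = Set.range f := by
    refine Set.Subset.antisymm ?_ ?_
    · rintro _ ⟨r, hr, hr0, hmem, rfl⟩
      obtain ⟨a, b, rfl⟩ := Submodule.mem_span_pair.1 hmem
      by_cases hb : b = 0
      · subst hb
        refine ⟨none, (pt_eq_iff hF (by omega) hu hr hr0).2 ⟨a, ?_, by simp⟩⟩
        rintro rfl
        exact hr0 (by simp)
      · refine ⟨some (a / b), (pt_eq_iff hF (by omega) (hiso _) hr hr0).2 ⟨b, hb, ?_⟩⟩
        rw [smul_add, smul_smul, mul_div_cancel₀ _ hb]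
    · rintro _ ⟨_ | a, rfl⟩
      · exact ⟨u, hu, hu0, Submodule.subset_span (Or.inl rfl), rfl⟩
      · exact ⟨_, hiso a, hne0 a, Submodule.add_mem _ (Submodule.smul_mem _ _
          (Submodule.subset_span (Or.inl rfl))) (Submodule.subset_span (Or.inr rfl)), rfl⟩
  rw [hrange, Set.ncard_range_of_injective hf, Nat.card_eq_fintype_card, Fintype.card_option, hF]
  norm_num

theorem hypUnique_tvq : HypUnique (tvq n F) := by
  intro a ha b hb hab d hd had hall
  obtain ⟨u, hu, hu0, rfl⟩ := exists_pt hF ha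
  obtain ⟨v, hv, hv0, rfl⟩ := exists_pt hF hb
  obtain ⟨w, hw, hw0, rfl⟩ := exists_pt hF hd
  have huv : hermForm n F 2 u v ≠ 0 := fun h => hab ((commute_pt hF (by omega) hu hv).2 h)
  have huw : hermForm n F 2 u w ≠ 0 := fun h => had ((commute_pt hF (by omega) hu hw).2 h)
  have hmem : w ∈ Submodule.span F ({u, v} : Set (Fin n → F)) := by
    refine mem_span_of_perp hF hn (indep_pair hF hu huv) (fun z hz hzu hzv => ?_)
      (Or.inr (nondeg_pair hF hu hv huv))
    by_cases hz0 : z = 0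
    · rw [hz0, herm_zero_left]
    exact (commute_pt hF (by omega) hz hw).1 (hall _ (pt_mem hF hz hz0)
      ((commute_pt hF (by omega) hz hu).2 hzu) ((commute_pt hF (by omega) hz hv).2 hzv))
  obtain ⟨x, y, rfl⟩ := Submodule.mem_span_pair.1 hmem
  have hs := hw
  simp only [herm_self_add hF, herm_smul_left, herm_smul_right, hu, hv, mul_zero,
    zero_add] at hs
  simp only [herm_add_right hF, herm_smul_right, hu, mul_zero, zero_add] at huw
  have hy : y ≠ 0 := fun h => huw (by rw [h, zero_pow two_ne_zero, zero_mul])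
  rcases eq_zero_or_one hF hs with h | h
  · left
    have hx : x = 0 := by
      simpa [hy, huv] using h
    subst hx
    exact (pt_congr hF (by rw [zero_smul, zero_add]) hw (herm_smul_zero hF hv y)).trans
      (pt_smul hF hv _ hy)
  · right
    rw [cj_pt hF hu hv (iso_add_cj hF hu hv)]
    refine (pt_congr hF ?_ hw (herm_smul_zero hF (iso_add_cj hF hu hv) y)).trans
      (pt_smul hF _ _ hy)
    rw [smul_add, smul_smul, add_comm]
    congr 2
    rw [← herm_swap hF u v]
    have h3 := cube hF hy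
    have h4 := cube hF huv
    linear_combination
      y * hermForm n F 2 u v ^ 2 * h - x * hermForm n F 2 u v * hermForm n F 2 u v ^ 2 * h3 - x * h4

end Class

section Residue

variable (hF : Fintype.card F = 2 ^ 2)
include hF

/-- The vectors orthogonal to two non-orthogonal isotropic vectors form a unitary space. -/
theorem exists_residue {u v : Fin n → F} (hu : hermForm n F 2 u u = 0)
    (hv : hermForm n F 2 v v = 0) (huv : hermForm n F 2 u v ≠ 0) {m : ℕ} (hm : n = m + 2) :
    ∃ f : (Fin m → F) →ₗ[F] (Fin n → F), Function.Injective f ∧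
      (∀ x y, hermForm n F 2 (f x) (f y) = hermForm m F 2 x y) ∧
      ∀ w, (hermForm n F 2 w u = 0 ∧ hermForm n F 2 w v = 0) ↔ ∃ x, f x = w := by
  have hP := nondeg_pair hF hu hv huv
  have hd := finrank_perp_add hF hP
  rw [finrank_pair (indep_pair hF hu huv)] at hd
  obtain ⟨e, he, hspan⟩ := exists_ON_basis hF _ (nondeg_perp hF hP)
  have hk : Module.finrank F
      (perp 2 (Submodule.span F ({u, v} : Set (Fin n → F)) : Set (Fin n → F))) = m := by omega
  revert e
  rw [hk]
  intro e he hspan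
  refine ⟨Fintype.linearCombination F e, ?_, fun x y => ?_, fun w => ?_⟩
  · exact linearIndependent_iff_injective_fintypeLinearCombination.1 he.linearIndependent
  · rw [Fintype.linearCombination_apply, Fintype.linearCombination_apply, herm_sum_right hF]
    exact Finset.sum_congr rfl fun j _ => by rw [herm_smul_right, he.coeff, mul_comm]
  · have hr := Submodule.mem_span_range_iff_exists_fun (R := F) (v := e) (x := w)
    rw [hspan, perp_span hF, mem_perp_pair] at hr
    simpa [Fintype.linearCombination_apply] using hr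

/-- Coordinates with respect to a hyperbolic pair. -/
theorem decomp {u v : Fin n → F} (hu : hermForm n F 2 u u = 0) (hv : hermForm n F 2 v v = 0)
    (huv : hermForm n F 2 u v = 1) {m : ℕ} {f : (Fin m → F) →ₗ[F] (Fin n → F)}
    (hf : ∀ w, (hermForm n F 2 w u = 0 ∧ hermForm n F 2 w v = 0) ↔ ∃ x, f x = w)
    (w : Fin n → F) :
    ∃ x, w = hermForm n F 2 w v • u + hermForm n F 2 w u • v + f x := by
  have hvu : hermForm n F 2 v u = 1 := by rw [← herm_swap hF u v, huv, one_pow]
  obtain ⟨x, hx⟩ := (hf (w - hermForm n F 2 w v • u - hermForm n F 2 w u • v)).1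
    ⟨by simp [herm_sub_left, herm_smul_left, hu, hvu], by
      simp [herm_sub_left, herm_smul_left, hv, huv]⟩
  exact ⟨x, by rw [hx]; abel⟩

/-- Isotropic vectors in these coordinates. -/
theorem herm_decomp {u v : Fin n → F} (hu : hermForm n F 2 u u = 0) (hv : hermForm n F 2 v v = 0)
    (huv : hermForm n F 2 u v = 1) {m : ℕ} {f : (Fin m → F) →ₗ[F] (Fin n → F)}
    (hiso : ∀ x y, hermForm n F 2 (f x) (f y) = hermForm m F 2 x y)
    (hf : ∀ w, (hermForm n F 2 w u = 0 ∧ hermForm n F 2 w v = 0) ↔ ∃ x, f x = w)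
    (a b a' b' : F) (x x' : Fin m → F) :
    hermForm n F 2 (a • u + b • v + f x) (a' • u + b' • v + f x') =
      a * b' ^ 2 + b * a' ^ 2 + hermForm m F 2 x x' := by
  have hvu : hermForm n F 2 v u = 1 := by rw [← herm_swap hF u v, huv, one_pow]
  obtain ⟨h1, h2⟩ := (hf (f x)).2 ⟨x, rfl⟩
  obtain ⟨h3, h4⟩ := (hf (f x')).2 ⟨x', rfl⟩
  simp only [herm_add_left, herm_add_right hF, herm_smul_left, herm_smul_right, hu, hv, huv, hvu,
    h1, h2, (herm_eq_zero_symm hF).1 h3, (herm_eq_zero_symm hF).1 h4, hiso]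
  ring

/-- The members commuting with two non-commuting ones form the class in two dimensions less. -/
theorem exists_residue_equiv {m : ℕ} (hm : n = m + 2) (hm3 : 3 ≤ m) {a b : PSU n F 2}
    (ha : a ∈ tvq n F) (hb : b ∈ tvq n F) (hab : ¬ Commute a b) :
    ∃ e : ↥(tvq m F) ≃ ↥{d : PSU n F 2 | d ∈ tvq n F ∧ Commute d a ∧ Commute d b},
      ∀ x y : ↥(tvq m F), Commute (e x : PSU n F 2) (e y) ↔ Commute (x : PSU m F 2) y := by
  obtain ⟨u, hu, -, rfl⟩ := exists_pt hF ha
  obtain ⟨v, hv, -, rfl⟩ := exists_pt hF hb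
  have hn3 : 3 ≤ n := by omega
  have huv : hermForm n F 2 u v ≠ 0 := fun h => hab ((commute_pt hF hn3 hu hv).2 h)
  obtain ⟨f, hinj, hiso, hmem⟩ := exists_residue hF hu hv huv hm
  choose z hz hz0 hzeq using fun x : ↥(tvq m F) => exists_pt hF x.2
  have hfz : ∀ x, hermForm n F 2 (f (z x)) (f (z x)) = 0 := fun x => by rw [hiso, hz]
  have hf0 : ∀ x, f (z x) ≠ 0 := fun x h => hz0 x (hinj (h.trans (map_zero f).symm))
  let g : ↥(tvq m F) → ↥{d : PSU n F 2 | d ∈ tvq n F ∧ Commute d (pt hF u hu) ∧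
      Commute d (pt hF v hv)} := fun x =>
    ⟨pt hF _ (hfz x), pt_mem hF _ (hf0 x),
      (commute_pt hF hn3 (hfz x) hu).2 ((hmem _).2 ⟨_, rfl⟩).1,
      (commute_pt hF hn3 (hfz x) hv).2 ((hmem _).2 ⟨_, rfl⟩).2⟩
  have hg : Function.Bijective g := by
    refine ⟨fun x y h => ?_, ?_⟩
    · obtain ⟨c, hc, he⟩ := (pt_eq_iff hF hn3 (hfz x) (hfz y) (hf0 y)).1 (congrArg Subtype.val h)
      refine Subtype.ext ((hzeq x).trans (Eq.trans ?_ (hzeq y).symm))
      exact (pt_eq_iff hF hm3 (hz x) (hz y) (hz0 y)).2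
        ⟨c, hc, hinj (he.trans (map_smul f c _).symm)⟩
    · rintro ⟨d, hd, hda, hdb⟩
      obtain ⟨w, hw, hw0, rfl⟩ := exists_pt hF hd
      obtain ⟨r, rfl⟩ := (hmem w).1
        ⟨(commute_pt hF hn3 hw hu).1 hda, (commute_pt hF hn3 hw hv).1 hdb⟩
      have hr : hermForm m F 2 r r = 0 := by rw [← hiso, hw]
      have hr0 : r ≠ 0 := fun h => hw0 (by rw [h, map_zero])
      refine ⟨⟨pt hF r hr, pt_mem hF hr hr0⟩, Subtype.ext ?_⟩
      obtain ⟨c, hc, he⟩ := (pt_eq_iff hF hm3 (hz _) hr hr0).1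
        (hzeq ⟨pt hF r hr, pt_mem hF hr hr0⟩).symm
      exact (pt_eq_iff hF hn3 (hfz _) hw hw0).2 ⟨c, hc, (congrArg f he).trans (map_smul f c _)⟩
  refine ⟨Equiv.ofBijective g hg, fun x y => ?_⟩
  show Commute (pt hF (f (z x)) (hfz x)) (pt hF (f (z y)) (hfz y)) ↔ _
  rw [commute_pt hF hn3, hiso, hzeq x, hzeq y, commute_pt hF hm3]

end Residue

end Cfsg.Agent.H7Thick.Model
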