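import Cfsg.Agent.H80.TTQuad.Basic

/-!
Two classes of 3-transpositions with isomorphic commuting graphs give isomorphic groups, when in
one of them the third member of a triangle is the only further point of its hyperbolic line.
-/

set_option autoImplicit false
set_option linter.unusedSectionVars false

namespace Cfsg.Agent.H7Thick

open Cfsg
open H76.LocallyS3 (nb cj cj_cj cj_injective commute_cj_iff)
open H80.TTQuad (Cls cj_one cj_inv_cj cj_cj_inv cj_eq_of_commute)

universe u v

variable {G : Type u} [Group G] {D : Set G} {G' : Type v} [Group G'] {D' : Set G'}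

/-- The third member of a triangle is the only further point of the hyperbolic line. -/
def HypUnique (D : Set G) : Prop :=
  ∀ a ∈ D, ∀ b ∈ D, ¬ Commute a b → ∀ d ∈ D, ¬ Commute a d →
    (∀ z ∈ D, Commute z a → Commute z b → Commute z d) → d = b ∨ d = cj a b

theorem cj_prod (g k : G × G') : cj g k = (cj g.1 k.1, cj g.2 k.2) := rfl

/-- A commuting-graph isomorphism is equivariant. -/
theorem graph_equivariant (H : Cls D) (H' : Cls D') (hu : HypUnique D') (φ : ↥D ≃ ↥D')
    (hφ : ∀ a b : ↥D, Commute (φ a : G') (φ b) ↔ Commute (a : G) b) (a b : ↥D) :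
    (φ ⟨cj (a : G) b, H.mem_cj a b.2⟩ : G') = cj (φ a : G') (φ b) := by
  by_cases h : Commute (a : G) b
  · rw [cj_eq_of_commute ((hφ a b).2 h)]
    exact congrArg Subtype.val (congrArg φ (Subtype.ext (cj_eq_of_commute h)))
  · set c : ↥D := ⟨cj (a : G) b, H.mem_cj a b.2⟩
    obtain ⟨hbc, hac⟩ := H.not_commute_cj a.2 b.2 h
    have hres := hu (φ a) (φ a).2 (φ b) (φ b).2 (fun q => h ((hφ a b).1 q)) (φ c) (φ c).2
      (fun q => hac ((hφ a c).1 q)) fun z hz za zb => ?_
    · rcases hres with e | e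
      · exfalso
        have e' : c = b := φ.injective (Subtype.ext e)
        refine hbc ?_
        rw [show cj (a : G) b = (b : G) from congrArg Subtype.val e']
      · exact e
    · obtain ⟨z₀, hz₀⟩ := φ.surjective ⟨z, hz⟩
      have ez : (φ z₀ : G') = z := congrArg Subtype.val hz₀
      rw [← ez] at za zb ⊢
      refine (hφ z₀ c).2 ?_
      show Commute (z₀ : G) (cj (a : G) b)
      rw [← cj_eq_of_commute ((hφ z₀ a).1 za).symm]
      exact commute_cj_iff.2 ((hφ z₀ b).1 zb)

/-- Isomorphic commuting graphs give isomorphic groups. -/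
theorem iso_of_graph [Finite G] [Finite G'] (H : Cls D) (H' : Cls D') (hu : HypUnique D')
    (φ : ↥D ≃ ↥D') (hφ : ∀ a b : ↥D, Commute (φ a : G') (φ b) ↔ Commute (a : G) b) :
    Nonempty (G ≃* G') := by
  let S : Subgroup (G × G') :=
    { carrier := {g | ∀ z : ↥D, (φ ⟨cj g.1 z, H.mem_cj g.1 z.2⟩ : G') = cj g.2 (φ z)}
      one_mem' := fun z => by
        rw [show (1 : G × G').2 = 1 from rfl, cj_one]
        exact congrArg Subtype.val (congrArg φ (Subtype.ext (cj_one _)))
      mul_mem' := fun {g k} hg hk z => by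
        rw [show (g * k).2 = g.2 * k.2 from rfl, ← cj_cj, ← hk z, ← hg]
        exact congrArg Subtype.val (congrArg φ (Subtype.ext (cj_cj _ _ _).symm))
      inv_mem' := fun {g} hg z => by
        have h := hg ⟨cj g.1⁻¹ z, H.mem_cj _ z.2⟩
        have e : (⟨cj g.1 (cj g.1⁻¹ z), H.mem_cj g.1 (H.mem_cj g.1⁻¹ z.2)⟩ : ↥D) = z :=
          Subtype.ext (cj_cj_inv _ _)
        rw [e] at h
        show _ = cj g.2⁻¹ _
        rw [h, cj_inv_cj]
        rfl }
  have hgen : ∀ a : ↥D, ((a : G), (φ a : G')) ∈ S := fun a b => graph_equivariant H H' hu φ hφ a b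
  have f1 : Function.Surjective ((MonoidHom.fst G G').comp S.subtype) := by
    rw [← MonoidHom.range_eq_top, eq_top_iff, ← H.cl.2.2, Subgroup.closure_le]
    exact fun a ha => ⟨⟨_, hgen ⟨a, ha⟩⟩, rfl⟩
  have f2 : Function.Surjective ((MonoidHom.snd G G').comp S.subtype) := by
    rw [← MonoidHom.range_eq_top, eq_top_iff, ← H'.cl.2.2, Subgroup.closure_le]
    exact fun b hb => ⟨⟨_, hgen (φ.symm ⟨b, hb⟩)⟩,
      congrArg Subtype.val (φ.apply_symm_apply ⟨b, hb⟩)⟩
  have i1 : Function.Injective ((MonoidHom.fst G G').comp S.subtype) := by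
    refine (injective_iff_map_eq_one _).2 fun g hg => ?_
    have hg' : g.1.1 = 1 := hg
    have h2 : g.1.2 = 1 := H'.eq_one_of_fix fun d hd => by
      obtain ⟨z, hz⟩ := φ.surjective ⟨d, hd⟩
      have ez : (φ z : G') = d := congrArg Subtype.val hz
      rw [← ez, ← g.2 z]
      exact congrArg Subtype.val (congrArg φ (Subtype.ext ((congrArg (fun x => cj x (z : G)) hg').trans (cj_one _))))
    exact Subtype.ext (Prod.ext hg' h2)
  have i2 : Function.Injective ((MonoidHom.snd G G').comp S.subtype) := by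
    refine (injective_iff_map_eq_one _).2 fun g hg => ?_
    have hg' : g.1.2 = 1 := hg
    have h1 : g.1.1 = 1 := H.eq_one_of_fix fun d hd => by
      have h := g.2 ⟨d, hd⟩
      rw [hg', cj_one] at h
      exact congrArg Subtype.val (φ.injective (Subtype.ext h))
    exact Subtype.ext (Prod.ext h1 hg')
  exact ⟨(MulEquiv.ofBijective _ ⟨i1, f1⟩).symm.trans (MulEquiv.ofBijective _ ⟨i2, f2⟩)⟩

end Cfsg.Agent.H7Thick
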