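import Cfsg.Agent.H7Thick.Sum
import Cfsg.Agent.Symplectic.AltStd

/-!
A class of 3-transpositions all of whose lines have three points is the transvection class of a
symplectic group over the field of two elements.
-/

set_option autoImplicit false
set_option linter.unusedSectionVars false

namespace Cfsg.Agent.H7Thick

open Cfsg
open H76.LocallyS3 (cj cj_cj cj_injective commute_cj_iff)
open H80.TTQuad (cj_one cj_inv_cj cj_cj_inv cj_eq_of_commute)
open LinearMap (BilinForm)

universe u

variable {G : Type u} [Group G] {D : Set G}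

/-- The commuting pattern of a member. -/
noncomputable def pat (d : ↥D) : ↥D → ZMod 2 := fun z => bit (z : G) (d : G)

theorem self_add (v : ↥D → ZMod 2) : v + v = 0 := funext fun z => by
  have h : ∀ c : ZMod 2, c + c = 0 := by decide
  exact h (v z)

namespace Three

variable [Finite G] (K : Three D)
include K

theorem pat_add {a b : ↥D} (h : a ≠ b) :
    ∃ c : ↥D, (¬ Commute (a : G) b → (c : G) = cj (b : G) a) ∧ pat a + pat b = pat c := by
  obtain ⟨c, hc, hcab, hsum⟩ := K.exists_add a.2 b.2 fun e => h (Subtype.ext e)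
  exact ⟨⟨c, hc⟩, hcab, funext fun z => hsum z z.2⟩

/-- The space of patterns. -/
def space : Submodule (ZMod 2) (↥D → ZMod 2) where
  carrier := {v | v = 0 ∨ ∃ d, pat d = v}
  zero_mem' := Or.inl rfl
  add_mem' := by
    rintro v w (rfl | ⟨a, rfl⟩) hw
    · rwa [zero_add]
    · rcases hw with rfl | ⟨b, rfl⟩
      · exact Or.inr ⟨a, (add_zero _).symm⟩
      · by_cases h : a = b
        · subst h; exact Or.inl (self_add _)
        · obtain ⟨c, -, hc⟩ := K.pat_add h
          exact Or.inr ⟨c, hc.symm⟩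
  smul_mem' := by
    intro c v hv
    rcases (show c = 0 ∨ c = 1 by revert c; decide) with rfl | rfl
    · exact Or.inl (zero_smul _ v)
    · rwa [one_smul]

/-- A member as a vector. -/
noncomputable def vec (d : ↥D) : K.space := ⟨pat d, Or.inr ⟨d, rfl⟩⟩

theorem vec_injective : Function.Injective K.vec := by
  intro a b h
  refine Subtype.ext (K.eq_of_commute_subset a.2 b.2 fun w hw hc => ?_)
  by_contra hn
  have := congrFun (congrArg Subtype.val h) ⟨w, hw⟩
  simp only [vec, pat, bit_of_commute hc.symm, bit_of_not fun h' => hn h'.symm] at this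
  exact zero_ne_one this

theorem vec_ne_zero (d : ↥D) : K.vec d ≠ 0 := by
  obtain ⟨f, hf, hdf⟩ := K.exists_noncommute d.2
  intro h
  have := congrFun (congrArg Subtype.val h) ⟨f, hf⟩
  simp only [vec, pat, bit_of_not fun h' => hdf h'.symm, ZeroMemClass.coe_zero, Pi.zero_apply] at this
  exact one_ne_zero this

theorem eq_zero_or_vec (v : K.space) : v = 0 ∨ ∃ d, K.vec d = v :=
  v.2.imp (fun h => Subtype.ext h) fun ⟨d, hd⟩ => ⟨d, Subtype.ext hd⟩

open Classical in
/-- The value of the form. -/
noncomputable def val (v w : K.space) : ZMod 2 :=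
  if h : ∃ d, K.vec d = v then (w : ↥D → ZMod 2) h.choose else 0

theorem val_vec (d : ↥D) (w : K.space) : K.val (K.vec d) w = (w : ↥D → ZMod 2) d := by
  have h : ∃ d', K.vec d' = K.vec d := ⟨d, rfl⟩
  rw [val, dif_pos h, K.vec_injective h.choose_spec]

theorem val_zero (w : K.space) : K.val 0 w = 0 := by
  rw [val, dif_neg fun ⟨d, hd⟩ => K.vec_ne_zero d hd]

theorem val_comm (v w : K.space) : K.val v w = K.val w v := by
  rcases K.eq_zero_or_vec v with rfl | ⟨a, rfl⟩ <;> rcases K.eq_zero_or_vec w with rfl | ⟨b, rfl⟩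
  · rfl
  · rw [K.val_zero, K.val_vec]; rfl
  · rw [K.val_zero, K.val_vec]; rfl
  · rw [K.val_vec, K.val_vec]; exact bit_comm _ _

theorem val_add (v w w' : K.space) : K.val v (w + w') = K.val v w + K.val v w' := by
  rcases K.eq_zero_or_vec v with rfl | ⟨a, rfl⟩
  · simp [K.val_zero]
  · simp [K.val_vec]

theorem val_smul (c : ZMod 2) (v w : K.space) : K.val v (c • w) = c • K.val v w := by
  rcases K.eq_zero_or_vec v with rfl | ⟨a, rfl⟩
  · simp [K.val_zero]
  · simp [K.val_vec]

/-- The symplectic form. -/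
noncomputable def form : BilinForm (ZMod 2) K.space :=
  LinearMap.mk₂ (ZMod 2) K.val (fun v v' w => by rw [K.val_comm, K.val_add, K.val_comm, K.val_comm w])
    (fun c v w => by rw [K.val_comm, K.val_smul, K.val_comm]) K.val_add K.val_smul

theorem form_vec (a b : ↥D) : K.form (K.vec a) (K.vec b) = bit (a : G) (b : G) := K.val_vec a (K.vec b)

theorem isAlt : K.form.IsAlt := by
  intro v
  rcases K.eq_zero_or_vec v with rfl | ⟨a, rfl⟩
  · simp
  · rw [K.form_vec, bit_of_commute (Commute.refl _)]

theorem nondeg : K.form.Nondegenerate := by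
  have h : ∀ v : K.space, (∀ w, K.form v w = 0) → v = 0 := by
    intro v hv
    rcases K.eq_zero_or_vec v with rfl | ⟨a, rfl⟩
    · rfl
    · obtain ⟨f, hf, haf⟩ := K.exists_noncommute a.2
      have := hv (K.vec ⟨f, hf⟩)
      rw [K.form_vec, bit_of_not haf] at this
      exact absurd this one_ne_zero
  refine ⟨h, fun v hv => h v fun w => ?_⟩
  exact (K.val_comm v w).trans (hv w)

theorem move_mem (g : G) (v : K.space) :
    (fun z : ↥D => (v : ↥D → ZMod 2) ⟨cj g⁻¹ z, K.mem_cj g⁻¹ z.2⟩) ∈ K.space := by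
  rcases K.eq_zero_or_vec v with rfl | ⟨a, rfl⟩
  · exact Or.inl rfl
  · refine Or.inr ⟨⟨cj g a, K.mem_cj g a.2⟩, funext fun z => ?_⟩
    show bit (z : G) (cj g a) = bit (cj g⁻¹ z) (a : G)
    rw [← bit_cj g⁻¹, cj_inv_cj]

/-- The conjugation action on patterns. -/
noncomputable def move (g : G) : K.space →ₗ[ZMod 2] K.space where
  toFun v := ⟨_, K.move_mem g v⟩
  map_add' _ _ := rfl
  map_smul' _ _ := rfl

theorem move_vec (g : G) (a : ↥D) : K.move g (K.vec a) = K.vec ⟨cj g a, K.mem_cj g a.2⟩ := by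
  refine Subtype.ext (funext fun z => ?_)
  show bit (cj g⁻¹ z) (a : G) = bit (z : G) (cj g a)
  rw [← bit_cj g, cj_cj_inv]

theorem move_comp (g h : G) (v : K.space) : K.move g (K.move h v) = K.move (g * h) v := by
  rcases K.eq_zero_or_vec v with rfl | ⟨a, rfl⟩
  · simp
  · simp only [K.move_vec]
    exact congrArg K.vec (Subtype.ext (cj_cj g h _))

theorem move_one (v : K.space) : K.move 1 v = v := by
  rcases K.eq_zero_or_vec v with rfl | ⟨a, rfl⟩
  · simp
  · rw [K.move_vec]; exact congrArg K.vec (Subtype.ext (cj_one _))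

/-- The representation. -/
noncomputable def rho : G →* (K.space ≃ₗ[ZMod 2] K.space) where
  toFun g := LinearEquiv.ofLinearMap (K.move g) (K.move g⁻¹)
    (LinearMap.ext fun v => (K.move_comp _ _ v).trans (by rw [mul_inv_cancel, K.move_one]; rfl))
    (LinearMap.ext fun v => (K.move_comp _ _ v).trans (by rw [inv_mul_cancel, K.move_one]; rfl))
  map_one' := LinearEquiv.ext K.move_one
  map_mul' g h := LinearEquiv.ext fun v => (K.move_comp g h v).symm

theorem rho_apply (g : G) (v : K.space) : K.rho g v = K.move g v := rfl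

theorem rho_mem (g : G) : K.rho g ∈ Symplectic.Isom K.form := by
  intro v w
  rcases K.eq_zero_or_vec v with rfl | ⟨a, rfl⟩
  · simp [K.rho_apply]
  · rcases K.eq_zero_or_vec w with rfl | ⟨b, rfl⟩
    · simp [K.rho_apply]
    · simp only [K.rho_apply, K.move_vec, K.form_vec, bit_cj]

theorem rho_member (d : ↥D) : K.rho d = Symplectic.tv K.isAlt (K.vec d) 1 := by
  refine LinearEquiv.ext fun v => ?_
  rw [Symplectic.tv_apply, one_mul]
  rcases K.eq_zero_or_vec v with rfl | ⟨a, rfl⟩
  · simp [K.rho_apply]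
  · rw [K.rho_apply, K.move_vec, K.form_vec]
    by_cases h : Commute (a : G) d
    · rw [bit_of_commute h, zero_smul, add_zero]
      exact congrArg K.vec (Subtype.ext (cj_eq_of_commute h.symm))
    · rw [bit_of_not h, one_smul]
      have hne : a ≠ d := fun e => h (e ▸ Commute.refl _)
      obtain ⟨c, hc, hsum⟩ := K.pat_add hne
      refine Subtype.ext ?_
      show pat _ = pat a + pat d
      rw [hsum]
      exact congrArg pat (Subtype.ext (hc h).symm)

theorem iso_symplectic : ∃ n : ℕ, Nonempty (G ≃* Matrix.symplecticGroup (Fin n) (ZMod 2)) := by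
  obtain ⟨m, e, hm, -⟩ := Symplectic.exists_std_equiv K.isAlt K.nondeg
  obtain ⟨φ⟩ := Symplectic.exists_isom_mulEquiv K.isAlt K.nondeg hm
  let ψ : G →* Symplectic.Isom K.form := K.rho.codRestrict _ K.rho_mem
  have hinj : Function.Injective ψ := by
    refine (injective_iff_map_eq_one ψ).2 fun g hg => K.eq_one_of_fix fun a ha => ?_
    have h : K.rho g (K.vec ⟨a, ha⟩) = K.vec ⟨a, ha⟩ := by
      rw [show K.rho g = 1 from congrArg Subtype.val hg]; rfl
    rw [K.rho_apply, K.move_vec] at h
    exact congrArg Subtype.val (K.vec_injective h)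
  have hsurj : Function.Surjective ψ := by
    have hle : Symplectic.Isom K.form ≤ K.rho.range := by
      rw [← Symplectic.isom_eq_closure K.nondeg K.isAlt, Subgroup.closure_le]
      rintro _ ⟨w, c, rfl⟩
      rcases (show c = 0 ∨ c = 1 by revert c; decide) with rfl | rfl
      · rw [Symplectic.tv_zero]; exact one_mem _
      · rcases K.eq_zero_or_vec w with rfl | ⟨d, rfl⟩
        · refine ⟨1, ?_⟩
          rw [map_one]
          exact LinearEquiv.ext fun v => by simp
        · exact ⟨d, K.rho_member d⟩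
    rintro ⟨f, hf⟩
    obtain ⟨g, hg⟩ := hle hf
    exact ⟨g, Subtype.ext hg⟩
  exact ⟨m, ⟨(MulEquiv.ofBijective ψ ⟨hinj, hsurj⟩).trans φ⟩⟩

end Three

/-- Lines of three points give a symplectic group. -/
theorem symplectic_of_three [Finite G] (K : H68.Thick.Thk D)
    (h3 : ∀ p ∈ D, ∀ q ∈ H76.LocallyS3.nb D p, (H68.Thick.Line D p q).ncard = 3) :
    ∃ n : ℕ, Nonempty (G ≃* Matrix.symplecticGroup (Fin n) (ZMod 2)) :=
  (⟨K, h3⟩ : Three D).iso_symplectic

end Cfsg.Agent.H7Thick
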