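import Cfsg.Agent.H68.Thick.Basic

/-!
Classes of 3-transpositions all of whose lines have three points: the sum of the commuting
patterns of two members is the pattern of a third member.
-/

set_option autoImplicit false
set_option linter.unusedSectionVars false

namespace Cfsg.Agent.H7Thick

open Cfsg
open H76.LocallyS3 (nb cj cj_cj cj_injective commute_cj_iff)
open H80.TTQuad (Cls B OnLine cj_one cj_inv_cj cj_cj_inv cj_eq_of_commute commute_of_cj_eq nb_symm
  B_comm cj_mul_self)
open H68.Thick (Thk Line line_commute mem_nb_of_line cj_line line_subset_B)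

universe u

variable {G : Type u} [Group G] {D : Set G}

/-- All lines have three points. -/
structure Three (D : Set G) : Prop extends Thk D where
  three : ∀ p ∈ D, ∀ q ∈ nb D p, (Line D p q).ncard = 3

open Classical in
/-- Whether two elements fail to commute, in the field of two elements. -/
noncomputable def bit (z d : G) : ZMod 2 := if Commute z d then 0 else 1

theorem bit_of_commute {z d : G} (h : Commute z d) : bit z d = 0 := if_pos h

theorem bit_of_not {z d : G} (h : ¬ Commute z d) : bit z d = 1 := if_neg h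

theorem bit_comm (z d : G) : bit z d = bit d z := by
  by_cases h : Commute z d
  · rw [bit_of_commute h, bit_of_commute h.symm]
  · rw [bit_of_not h, bit_of_not fun h' => h h'.symm]

theorem bit_cj (g z d : G) : bit (cj g z) (cj g d) = bit z d := by
  by_cases h : Commute z d
  · rw [bit_of_commute h, bit_of_commute (commute_cj_iff.2 h)]
  · rw [bit_of_not h, bit_of_not fun h' => h (commute_cj_iff.1 h')]

namespace Three

variable [Finite G] (K : Three D)
include K

theorem third_eq {p q r r' : G} (hp : p ∈ D) (hq : q ∈ nb D p) (hr : r ∈ Line D p q) (h1 : r ≠ p)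
    (h2 : r ≠ q) (hr' : r' ∈ Line D p q) (h1' : r' ≠ p) (h2' : r' ≠ q) : r' = r := by
  by_contra hne
  have hsub : ({p, q, r, r'} : Set G) ⊆ Line D p q := by
    rintro d (rfl | rfl | rfl | rfl)
    exacts [K.onLine_left hp, K.onLine_right hq, hr, hr']
  have hc := Set.ncard_le_ncard hsub (Set.toFinite _)
  rw [K.three p hp q hq, Set.ncard_insert_of_notMem ?_, Set.ncard_insert_of_notMem ?_,
    Set.ncard_pair (Ne.symm hne)] at hc
  · omega
  · simp only [Set.mem_insert_iff, Set.mem_singleton_iff, not_or]
    exact ⟨Ne.symm h2, Ne.symm h2'⟩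
  · simp only [Set.mem_insert_iff, Set.mem_singleton_iff, not_or]
    exact ⟨hq.2.1.symm, Ne.symm h1, Ne.symm h1'⟩

/-- The product of the two other points of a line through `p` swaps the other two points of every
line through `p` that it does not fix. -/
theorem swap {p a a' b b' : G} (hp : p ∈ D) (ha : a ∈ nb D p) (ha' : a' ∈ Line D p a) (ha'p : a' ≠ p)
    (ha'a : a' ≠ a) (hb : b ∈ nb D p) (hb' : b' ∈ Line D p b) (hb'p : b' ≠ p) (hb'b : b' ≠ b)
    (hab : ¬ Commute a b) : cj (b * b') a = a' := by
  obtain ⟨h1, h2, h3⟩ := K.translate hp ha hb hb' hb'p hb'b hab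
  exact K.third_eq hp ha ha' ha'p ha'a h1 h2 h3

theorem pair_sq {p a a' : G} (hp : p ∈ D) (ha : a ∈ nb D p) (ha' : a' ∈ Line D p a) :
    a * a' * (a * a') = 1 := by
  have hc : Commute a a' := line_commute K.toCls hp ha (K.onLine_right ha) ha'
  rw [mul_assoc, ← mul_assoc a', ← hc.eq, mul_assoc a, K.sq ha'.1, mul_one, K.sq ha.1]

theorem trace_one {p a a' z : G} (hp : p ∈ D) (ha : a ∈ nb D p) (ha' : a' ∈ Line D p a)
    (ha'p : a' ≠ p) (ha'a : a' ≠ a) (hz : z ∈ D) (hzp : ¬ Commute z p) (hza : ¬ Commute z a) :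
    Commute z a' := by
  obtain ⟨r, hr, hzr⟩ := K.exists_trace hp ha hz
  have h1 : r ≠ p := fun e => hzp (e ▸ hzr)
  have h2 : r ≠ a := fun e => hza (e ▸ hzr)
  rwa [K.third_eq hp ha hr h1 h2 ha' ha'p ha'a]

/-- A member commutes with a member of every triangle. -/
theorem triangle {a b z : G} (ha : a ∈ D) (hb : b ∈ D) (hz : z ∈ D) (hab : ¬ Commute a b)
    (hza : ¬ Commute z a) (hzb : ¬ Commute z b) : Commute z (cj b a) := by
  obtain ⟨p, hp, hap, hbp⟩ : ∃ p, p ∈ D ∧ a ∈ nb D p ∧ b ∈ nb D p := by
    obtain ⟨y, hy⟩ := K.nb_nonempty ha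
    obtain ⟨r, hr, hbr⟩ := K.exists_trace ha hy hb
    have hra : r ≠ a := fun e => hab (e ▸ hbr).symm
    have hrn := mem_nb_of_line K.toCls ha hy hr hra
    exact ⟨r, hr.1, nb_symm ha hrn, hb,
      fun e => hab (by rw [e]; exact hrn.2.2), hbr.symm⟩
  by_contra hzc
  obtain ⟨a', ha', ha'p, ha'a⟩ := K.big p hp a hap
  obtain ⟨b', hb', hb'p, hb'b⟩ := K.big p hp b hbp
  have hba : ¬ Commute b a := fun h => hab h.symm
  have ea := K.pair_sq hp hap ha'
  have eb := K.pair_sq hp hbp hb'
  have hsa : cj (b * b') a = a' := K.swap hp hap ha' ha'p ha'a hbp hb' hb'p hb'b hab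
  have hsb : cj (a * a') b = b' := K.swap hp hbp hb' hb'p hb'b hap ha' ha'p ha'a hba
  have hcomm : Commute b b' := line_commute K.toCls hp hbp (K.onLine_right hbp) hb'
  by_cases hzp : Commute z p
  · have hzn : z ∈ nb D p := ⟨hz, fun e => hza (e ▸ hap.2.2), hzp.symm⟩
    obtain ⟨z', hz', hz'p, hz'z⟩ := K.big p hp z hzn
    have h1 := K.swap hp hzn hz' hz'p hz'z hap ha' ha'p ha'a hza
    have h2 := K.swap hp hzn hz' hz'p hz'z hbp hb' hb'p hb'b hzb
    have hcn : cj b a ∈ nb D p := K.cj_mem_nb hbp.2.2.symm hap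
    have hbfix : cj b p = p := cj_eq_of_commute hbp.2.2.symm
    have hc'l : cj b a' ∈ Line D p (cj b a) := by
      have h : cj b a' ∈ cj b '' Line D p a := ⟨a', ha', rfl⟩
      rwa [cj_line K.toCls, hbfix] at h
    have hc'p : cj b a' ≠ p := fun e => ha'p (cj_injective b (e.trans hbfix.symm))
    have hc'c : cj b a' ≠ cj b a := fun e => ha'a (cj_injective b e)
    have h3 := K.swap hp hzn hz' hz'p hz'z hcn hc'l hc'p hc'c hzc
    have hbi := K.inv' hb
    have hb'eq : b' = a * a' * b * (a * a') := by
      rw [← hsb, show (cj (a * a') b) = a * a' * b * (a * a')⁻¹ from rfl,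
        inv_eq_of_mul_eq_one_right ea]
    have hid : cj b a * cj b a' = b * b' * (a * a') := by
      have l : cj b a * cj b a' = b * (a * a') * b := by
        simp only [cj, hbi]
        rw [show b * a * b * (b * a' * b) = b * a * (b * b) * a' * b by group, K.sq hb]
        group
      rw [l, hb'eq,
        show b * (a * a' * b * (a * a')) * (a * a') = b * (a * a' * b) * (a * a' * (a * a')) by group,
        ea, mul_one, mul_assoc b (a * a') b]
    rw [hid, ← cj_cj, h1, ← h2, cj_mul_self eb] at h3
    exact hz'z (h3.trans h2).symm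
  · have hza' := K.trace_one hp hap ha' ha'p ha'a hz hzp hza
    have hzb' := K.trace_one hp hbp hb' hb'p hb'b hz hzp hzb
    refine hzc ?_
    have h : cj b' a' = cj b a := by
      rw [← hsa, cj_cj, ← mul_assoc, ← hcomm.eq, mul_assoc, K.sq hb'.1, mul_one]
    rw [← h, ← cj_eq_of_commute hzb'.symm]
    exact commute_cj_iff.2 hza'

/-- The patterns are closed under sums. -/
theorem exists_add {a b : G} (ha : a ∈ D) (hb : b ∈ D) (hne : a ≠ b) :
    ∃ c ∈ D, (¬ Commute a b → c = cj b a) ∧ ∀ z ∈ D, bit z a + bit z b = bit z c := by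
  by_cases hab : Commute a b
  · have hbn : b ∈ nb D a := ⟨hb, hne.symm, hab⟩
    obtain ⟨r, hr, hra, hrb⟩ := K.big a ha b hbn
    refine ⟨r, hr.1, fun h => absurd hab h, fun z hz => ?_⟩
    by_cases hB : z ∈ B D a b
    · rw [bit_of_commute hB.2.1, bit_of_commute hB.2.2, bit_of_commute (hr.2 z hB).symm, add_zero]
    · have nz : ∀ {u v}, u ∈ Line D a b → v ∈ Line D a b → Commute z u → u ≠ v → ¬ Commute z v :=
        fun hu hv h huv h' => huv (K.trace_unique ha hbn hz hB hu hv h h')
      have la : a ∈ Line D a b := K.onLine_left ha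
      have lb : b ∈ Line D a b := K.onLine_right hbn
      obtain ⟨t, ht, hzt⟩ := K.exists_trace ha hbn hz
      by_cases hta : t = a
      · subst hta
        rw [bit_of_commute hzt, bit_of_not (nz la lb hzt hne), bit_of_not (nz la hr hzt hra.symm),
          zero_add]
      · by_cases htb : t = b
        · subst htb
          rw [bit_of_commute hzt, bit_of_not (nz lb la hzt hne.symm),
            bit_of_not (nz lb hr hzt hrb.symm), add_zero]
        · have := K.third_eq ha hbn hr hra hrb ht hta htb
          subst this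
          rw [bit_of_not (nz hr la hzt hta), bit_of_not (nz hr lb hzt htb), bit_of_commute hzt]
          decide
  · refine ⟨cj b a, K.mem_cj b ha, fun _ => rfl, fun z hz => ?_⟩
    have hbr := K.braid ha hb hab
    by_cases hza : Commute z a <;> by_cases hzb : Commute z b
    · rw [bit_of_commute hza, bit_of_commute hzb, bit_of_commute ?_, add_zero]
      rw [← cj_eq_of_commute hzb.symm]
      exact commute_cj_iff.2 hza
    · rw [bit_of_commute hza, bit_of_not hzb, bit_of_not ?_, zero_add]
      intro h
      rw [← hbr, ← cj_eq_of_commute hza.symm] at h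
      exact hzb (commute_cj_iff.1 h)
    · rw [bit_of_not hza, bit_of_commute hzb, bit_of_not ?_, add_zero]
      intro h
      rw [← cj_eq_of_commute hzb.symm] at h
      exact hza (commute_cj_iff.1 h)
    · rw [bit_of_not hza, bit_of_not hzb, bit_of_commute (K.triangle ha hb hz hab hza hzb)]
      decide

end Three

end Cfsg.Agent.H7Thick
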